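import Groth.Agent.RelAssClosure.Scheme
import Groth.Agent.FibDim.Comp
import Groth.Agent.FibDim.LocDim
import Groth.Agent.FibDim.AffineSpaceFibre
import Groth.Agent.DimFormula.Basic

/-!
# The closure of a relatively associated point has constant relative dimension
-/

universe u

set_option autoImplicit false
set_option linter.style.haveILetI false
set_option backward.isDefEq.respectTransparency false
set_option backward.isDefEq.respectTransparency.types false

open CategoryTheory CategoryTheory.Limits AlgebraicGeometry TopologicalSpace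

namespace Groth.Agent.RelAssClosure

theorem exists_fibreDimAt_closure {X S : Scheme.{u}} (f : X ⟶ S) [LocallyOfFiniteType f] {F : X.Modules}
    (hF : Coh.IsCoh F) {y : X} (hy : y ∈ MoreMor.relAss f F) {Y : Scheme.{u}} (i : Y ⟶ X) [IsClosedImmersion i]
    (hi : Set.range i = closure {y})
    (hflat : ∀ x : Y, (∃ Z ∈ irreducibleComponents ↥((i ≫ f).fiber (f (i x))),
      IsGenericPoint ((i ≫ f).asFiber x) Z) → FlatMod.IsFlatOverAt f F (i x)) :
    ∃ d : ℕ, ∀ x : Y, FlatMor.fibreDimAt (i ≫ f) x = d := by
  refine ⟨FibDim.rd f y, fun x => ?_⟩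
  obtain ⟨z, -, -, hzmax, hz⟩ := FibDim.exists_fibMax_generization (i ≫ f) x
  rw [hz]
  have hrd : FibDim.rd (i ≫ f) z = FibDim.rd f (i z) := by
    have := FibDim.rd_comp i f z
    rw [FibDim.rd_eq_zero_of_quasiFinite i, add_zero] at this
    exact this
  rw [hrd]
  have hgen : ∀ w, y ⤳ w → w ⤳ i z → f w = f (i z) → w = i z := by
    intro w hyw hwz hfw
    obtain ⟨w', rfl⟩ : w ∈ Set.range i := hi.ge (specializes_iff_mem_closure.1 hyw)
    exact congrArg i.base (hzmax w' (i.isClosedEmbedding.isInducing.specializes_iff.1 hwz) hfw)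
  have hfl : FlatMod.IsFlatOverAt f F (i z) := hflat z ⟨closure {(i ≫ f).asFiber z},
    FDescent.closure_mem_irreducibleComponents ((FibDim.fibMax_fiberι_iff (i ≫ f) _).1 (by
      erw [Scheme.Hom.fiberι_asFiber]; exact hzmax)), rfl⟩
  rw [(mem_relAss_and_rd_eq f hF hy (specializes_iff_mem_closure.2 (hi.le ⟨z, rfl⟩)) hgen hfl).2]
  rfl

end Groth.Agent.RelAssClosure
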