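import Groth.Agent.RelAssGen.Ring
import Groth.Agent.S2049
import Mathlib

/-!
# The torsion submodule of a flat module over a valuation ring meets the closed fibre (EGA IV 12.1.1.5)
-/

universe u

set_option autoImplicit false
set_option linter.style.haveILetI false

open IsLocalRing

namespace Groth.Agent.RelAssClosure

/-- An element of `m • N` is a multiple by one element of `m`. -/
theorem exists_smul_eq_of_mem {A O N : Type u} [CommRing A] [IsDomain A] [ValuationRing A] [CommRing O] [Algebra A O]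
    [AddCommGroup N] [Module O N] [Module A N] [IsScalarTower A O N] (I : Ideal A) {z : N}
    (hz : z ∈ (I.map (algebraMap A O)) • (⊤ : Submodule O N)) : ∃ c ∈ I, ∃ w : N, z = c • w := by
  have h1 : z ∈ I • (⊤ : Submodule A N) := by
    have h2 : z ∈ (I.map (algebraMap A O) • (⊤ : Submodule O N)).restrictScalars A := hz
    rwa [Ideal.smul_restrictScalars, Submodule.restrictScalars_top] at h2
  refine Submodule.smul_induction_on h1 (fun c hc w _ => ⟨c, hc, w, rfl⟩) ?_
  rintro _ _ ⟨c, hc, w, rfl⟩ ⟨c', hc', w', rfl⟩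
  rcases ValuationRing.dvd_total c c' with ⟨e, rfl⟩ | ⟨e, rfl⟩
  · exact ⟨c, hc, w + e • w', by rw [smul_add, smul_smul]⟩
  · exact ⟨c', hc', e • w + w', by rw [smul_add, smul_smul]⟩

/-- A point of the assassin of the generic fibre gives, at a generic point of the closed fibre of its closure
where the module is flat, a point of the assassin of the closed fibre. -/
theorem isAssociatedPrime_closed {A B M O N : Type u} [CommRing A] [IsDomain A] [ValuationRing A] [CommRing B]
    [Algebra A B] [Algebra.FiniteType A B] [AddCommGroup M] [Module B M] [Module.Finite B M]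
    (P Q : Ideal B) [hPp : P.IsPrime] [Q.IsPrime] (hPQ : P ≤ Q)
    (hQ : Q.comap (algebraMap A B) = maximalIdeal A)
    (hmin : ∀ J : Ideal B, J.IsPrime → P ≤ J → J ≤ Q → maximalIdeal A ≤ J.comap (algebraMap A B) → J = Q)
    [CommRing O] [IsLocalRing O] [Algebra B O] [IsLocalization.AtPrime O Q] [Algebra A O] [IsScalarTower A B O]
    [AddCommGroup N] [Module O N] [Module B N] [IsScalarTower B O N] [Module A N] [IsScalarTower A O N]
    [Module.Flat A N] (ℓ : M →ₗ[B] N) [IsLocalizedModule Q.primeCompl ℓ]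
    (h : ∃ n : M, (∀ w ∉ P, w • n ≠ 0) ∧ ∀ b ∈ P, ∃ k : ℕ, ∃ w ∉ P, (w * b ^ k) • n = 0) :
    IsAssociatedPrime (maximalIdeal O) (N ⧸ ((maximalIdeal A).map (algebraMap A O) • ⊤ : Submodule O N)) := by
  classical
  obtain ⟨n, hn0, hn⟩ := h
  haveI : IsScalarTower A B N := IsScalarTower.of_algebraMap_smul fun a z => by
    rw [← IsScalarTower.algebraMap_smul O (algebraMap A B a), ← IsScalarTower.algebraMap_apply, algebraMap_smul]
  haveI : IsLocalHom (algebraMap A O) := ⟨fun a ha => by
    by_contra hu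
    have h1 : algebraMap A B a ∈ Q := by
      rw [← Ideal.mem_comap, hQ]; exact hu
    have h2 : algebraMap A O a ∈ maximalIdeal O := by
      rw [IsScalarTower.algebraMap_apply A B O]
      exact (IsLocalization.AtPrime.to_map_mem_maximal_iff O Q _).2 h1
    exact h2 ha⟩
  haveI : Algebra.EssFiniteType B O := Algebra.EssFiniteType.of_isLocalization O Q.primeCompl
  haveI : Algebra.EssFiniteType A O := Algebra.EssFiniteType.comp A B O
  haveI : Module.Finite O N := Module.Finite.of_isLocalizedModule Q.primeCompl (Rₚ := O) ℓ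
  have htf : ∀ (c : A) (z : N), c ≠ 0 → c • z = 0 → z = 0 := fun c z hc hz => by
    by_contra hz0
    have h3 : z ∈ Submodule.torsion A N := ⟨⟨c, mem_nonZeroDivisors_of_ne_zero hc⟩, hz⟩
    rw [Module.Flat.torsion_eq_bot, Submodule.mem_bot] at h3
    exact hz0 h3
  -- the torsion submodule
  let T : Submodule O N :=
    { carrier := {z | ∀ b ∈ P, ∃ k : ℕ, b ^ k • z = 0}
      zero_mem' := fun b _ => ⟨0, smul_zero _⟩
      add_mem' := fun {z z'} hz hz' b hb => by
        obtain ⟨k, hk⟩ := hz b hb
        obtain ⟨k', hk'⟩ := hz' b hb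
        exact ⟨k + k', by rw [smul_add, pow_add, mul_smul, smul_comm, hk, smul_zero, mul_smul, hk', smul_zero, add_zero]⟩
      smul_mem' := fun r z hz b hb => by
        obtain ⟨k, hk⟩ := hz b hb
        exact ⟨k, by rw [smul_comm, hk, smul_zero]⟩ }
  have hsat : ∀ (c : A) (z : N), c ≠ 0 → c • z ∈ T → z ∈ T := fun c z hc hz b hb => by
    obtain ⟨k, hk⟩ := hz b hb
    exact ⟨k, htf c _ hc (by rw [smul_comm]; exact hk)⟩
  haveI : Module.Flat A (N ⧸ T) := by
    rw [Module.Flat.flat_iff_torsion_eq_bot_of_isBezout, eq_bot_iff]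
    rintro z ⟨⟨c, hc⟩, hcz⟩
    obtain ⟨z, rfl⟩ := Submodule.Quotient.mk_surjective T z
    rw [Submodule.mem_bot, Submodule.Quotient.mk_eq_zero]
    refine hsat c z (nonZeroDivisors.ne_zero hc) ?_
    rw [← Submodule.Quotient.mk_eq_zero, Submodule.Quotient.mk_smul]
    exact hcz
  haveI : Module.FinitePresentation O (N ⧸ T) := S2049.result (A := A)
  have hfg : T.FG := by
    have := Module.FinitePresentation.fg_ker T.mkQ T.mkQ_surjective
    rwa [Submodule.ker_mkQ] at this
  -- it is nonzero
  have hne : ∃ z ∈ T, z ≠ 0 := by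
    haveI := RelAssGen.isNoetherianRing_generic (A := A) (B := B)
    let L := Localization (Algebra.algebraMapSubmonoid B (nonZeroDivisors A))
    obtain ⟨s, hs, hspan⟩ : ∃ s : Finset B, (↑s : Set B) ⊆ P ∧
        Ideal.span (algebraMap B L '' (s : Set B)) = P.map (algebraMap B L) := by
      obtain ⟨t, ht⟩ := Submodule.fg_span_iff_fg_span_finset_subset (R := L) (algebraMap B L '' (P : Set B))
        |>.1 (IsNoetherian.noetherian _)
      obtain ⟨s, hs, hst⟩ := Finset.subset_set_image_iff.1 ht.1
      refine ⟨s, hs, ?_⟩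
      rw [← Finset.coe_image, hst]
      exact ht.2.symm
    have hw : ∀ b ∈ s, ∃ k : ℕ, ∃ w ∉ P, (w * b ^ k) • n = 0 := fun b hb => hn b (hs hb)
    choose! k w hwP hwk using hw
    let U := ∏ b ∈ s, w b
    have hU : U ∉ P := fun hmem => by
      obtain ⟨b, hb, hbP⟩ := (Ideal.IsPrime.prod_mem_iff (p := P)).1 hmem
      exact hwP b hb hbP
    refine ⟨ℓ (U • n), fun b hb => ?_, fun h0 => ?_⟩
    · let rad : Ideal B := ((⊥ : Submodule B N).colon {ℓ (U • n)}).radical
      have hsI : (s : Set B) ⊆ rad := fun b hb' => ⟨k b, by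
        rw [Submodule.mem_colon_singleton, Submodule.mem_bot, ← map_smul, smul_smul]
        obtain ⟨d, hd⟩ := Finset.dvd_prod_of_mem w hb'
        rw [show b ^ k b * U = d * (w b * b ^ k b) by rw [show U = w b * d from hd]; ring, mul_smul, hwk b hb',
          smul_zero, map_zero]⟩
      have hb' : algebraMap B L b ∈ (Ideal.span (s : Set B)).map (algebraMap B L) := by
        rw [Ideal.map_span, hspan]; exact Ideal.mem_map_of_mem _ hb
      obtain ⟨_, ⟨c, hc, rfl⟩, hcb⟩ := (IsLocalization.algebraMap_mem_map_algebraMap_iff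
        (Algebra.algebraMapSubmonoid B (nonZeroDivisors A)) L _ _).1 hb'
      obtain ⟨K, hK⟩ := (Ideal.span_le.2 hsI hcb : algebraMap A B c * b ∈ rad)
      refine ⟨K, htf (c ^ K) _ (pow_ne_zero _ (nonZeroDivisors.ne_zero hc)) ?_⟩
      rw [Submodule.mem_colon_singleton, Submodule.mem_bot, mul_pow, mul_smul, ← map_pow, algebraMap_smul] at hK
      exact hK
    · obtain ⟨⟨v, hv⟩, hv0⟩ := (IsLocalizedModule.eq_zero_iff Q.primeCompl ℓ).1 h0
      refine hn0 (v * U) (fun hm => (hPp.mem_or_mem hm).elim (fun h' => hv (hPQ h')) hU) ?_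
      rw [mul_smul]; exact hv0
  -- an element outside the multiples
  obtain ⟨ξ, hξT, hξ⟩ : ∃ ξ ∈ T, ξ ∉ ((maximalIdeal A).map (algebraMap A O) • ⊤ : Submodule O N) := by
    by_contra hall
    push Not at hall
    have hle : T ≤ (maximalIdeal A).map (algebraMap A O) • T := fun z hz => by
      obtain ⟨c, hc, w', rfl⟩ := exists_smul_eq_of_mem (maximalIdeal A) (hall z hz)
      by_cases hc0 : c = 0
      · rw [hc0, zero_smul]; exact Submodule.zero_mem _
      · rw [← IsScalarTower.algebraMap_smul O c w']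
        exact Submodule.smul_mem_smul (Ideal.mem_map_of_mem _ hc) (hsat c w' hc0 hz)
    have hT0 : T = ⊥ := Submodule.eq_bot_of_le_smul_of_le_jacobson_bot _ T hfg hle (by
      rw [IsLocalRing.jacobson_eq_maximalIdeal ⊥ bot_ne_top, Ideal.map_le_iff_le_comap]
      intro a ha
      exact map_nonunit (algebraMap A O) a ha)
    obtain ⟨z, hz, hz0⟩ := hne
    exact hz0 (by simpa [hT0] using hz)
  refine ⟨(maximalIdeal.isMaximal O).isPrime, Submodule.Quotient.mk ξ, ?_⟩
  let J := (⊥ : Submodule O (N ⧸ ((maximalIdeal A).map (algebraMap A O) • ⊤ : Submodule O N))).colon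
    {Submodule.Quotient.mk ξ}
  show maximalIdeal O = J.radical
  have hJmem : ∀ r : O, r • ξ ∈ ((maximalIdeal A).map (algebraMap A O) • ⊤ : Submodule O N) → r ∈ J := fun r hr => by
    rw [Submodule.mem_colon_singleton, Submodule.mem_bot, ← Submodule.Quotient.mk_smul, Submodule.Quotient.mk_eq_zero]
    exact hr
  refine le_antisymm ?_ (le_maximalIdeal fun htop => hξ ?_)
  · rw [Ideal.radical_eq_sInf]
    refine le_sInf ?_
    rintro K ⟨hJK, hK⟩
    haveI := hK
    have hKQ : K.comap (algebraMap B O) = Q := by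
      refine hmin _ (Ideal.IsPrime.comap _) (fun b hb => ?_) (fun b hb => ?_) ?_
      · obtain ⟨k, hk⟩ := hξT b hb
        refine hK.mem_of_pow_mem k (hJK (hJmem _ ?_))
        rw [← map_pow, algebraMap_smul, hk]
        exact Submodule.zero_mem _
      · exact (IsLocalization.AtPrime.to_map_mem_maximal_iff O Q b).1 (le_maximalIdeal hK.ne_top hb)
      · intro a ha
        show algebraMap B O (algebraMap A B a) ∈ K
        rw [← IsScalarTower.algebraMap_apply A B O]
        exact hJK (hJmem _ (Submodule.smul_mem_smul (Ideal.mem_map_of_mem _ ha) trivial))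
    rw [← IsLocalization.map_under Q.primeCompl O K, show Ideal.under B K = Q from hKQ, IsLocalization.AtPrime.map_eq_maximalIdeal]
  · have h1 : (1 : O) ∈ J := by
      have := (Ideal.radical_eq_top.1 htop : J = ⊤)
      rw [this]; trivial
    rw [Submodule.mem_colon_singleton, one_smul, Submodule.mem_bot, Submodule.Quotient.mk_eq_zero] at h1
    exact h1

end Groth.Agent.RelAssClosure
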