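import Groth.Agent.RelAssClosure.Ring
import Groth.Agent.RelAssGen.Scheme
import Groth.Agent.ConsPropLib.RelAss
import Groth.Agent.FlatMisc.ValuationFibGeneric
import Groth.Agent.MorLib.FlatBC
import Groth.Agent.QCoh.FlatOver
import Groth.Agent.FibDim.Minimal
import Groth.Agent.H1GeomRk.Open
import Groth.Agent.GeomRedFlat5.Fibres
import Groth.Agent.S4447
import Mathlib

/-!
# Generic points of the fibres of the closure of a relatively associated point (EGA IV 12.1.1.5)
-/

universe u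

set_option autoImplicit false
set_option linter.style.haveILetI false
set_option backward.isDefEq.respectTransparency false
set_option backward.isDefEq.respectTransparency.types false
set_option maxHeartbeats 1000000

open CategoryTheory CategoryTheory.Limits AlgebraicGeometry IsLocalRing TopologicalSpace

namespace Groth.Agent.RelAssClosure

/-- The case of the spectrum of a valuation ring. -/
theorem mem_relAss_valuation {X Y : Scheme.{u}} [IsAffine Y] [IsDomain Γ(Y, ⊤)] [ValuationRing Γ(Y, ⊤)]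
    (f : X ⟶ Y) [LocallyOfFiniteType f] {F : X.Modules} (hF : Coh.IsCoh F) {y x : X}
    (hy : y ∈ MoreMor.relAss f F) (hη : ∀ t : Y, f y ⤳ t) (hs : ∀ t : Y, t ⤳ f x) (hyx : y ⤳ x)
    (hgen : ∀ z, y ⤳ z → z ⤳ x → f z = f x → z = x) (hfl : FlatMod.IsFlatOverAt f F x) :
    x ∈ MoreMor.relAss f F := by
  obtain ⟨W, hW, hxW, -⟩ := exists_isAffineOpen_mem_and_subset (x := x) (U := (⊤ : X.Opens)) trivial
  have hyW : y ∈ W := hyx.mem_open W.2 hxW
  let V : Y.Opens := ⊤
  have hV : IsAffineOpen V := isAffineOpen_top Y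
  haveI : IsDomain Γ(Y, V) := ‹IsDomain Γ(Y, ⊤)›
  haveI : ValuationRing Γ(Y, V) := ‹ValuationRing Γ(Y, ⊤)›
  have hle : W ≤ f ⁻¹ᵁ V := le_top
  letI := (f.appLE V W hle).hom.toAlgebra
  haveI : Algebra.FiniteType Γ(Y, V) Γ(X, W) := f.finiteType_appLE hV hW hle
  haveI : Module.Finite Γ(X, W) Γ(F, W) := QCoh.finite_of_isFT hF.1 hF.2 hW
  have hfcomm : ∀ (z : X) (hz : z ∈ W),
      (hV.primeIdealOf ⟨f z, hle hz⟩).asIdeal = (hW.primeIdealOf ⟨z, hz⟩).asIdeal.comap (algebraMap Γ(Y, V) Γ(X, W)) :=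
    fun z hz => by
      rw [← AssLib.comap_maximalIdeal_stalk hV (hle hz), ← AssLib.comap_maximalIdeal_stalk hW hz,
        Ideal.comap_comap, ← maximalIdeal_comap (f.stalkMap z).hom, Ideal.comap_comap]
      congr 1
      exact RingHom.ext fun a =>
        (Scheme.Hom.germ_stalkMap_apply f V z (hle hz) a).trans (X.presheaf.germ_res_apply (homOfLE hle) z hz _).symm
  have hbot : (hV.primeIdealOf ⟨f y, hle hyW⟩).asIdeal = ⊥ := by
    let q : Spec Γ(Y, V) := (⟨⊥, Ideal.isPrime_bot⟩ : PrimeSpectrum Γ(Y, V))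
    have h1 : f y ⤳ hV.fromSpec q := hη _
    have h2 := (AssLib.primeIdealOf_le_iff hV (show hV.fromSpec q ∈ V from trivial) (hle hyW)).2 h1
    have h3 : hV.primeIdealOf ⟨hV.fromSpec q, trivial⟩ = q :=
      hV.fromSpec.isOpenEmbedding.injective (hV.fromSpec_primeIdealOf _)
    rw [h3] at h2
    exact le_bot_iff.1 h2
  have hmax : (hV.primeIdealOf ⟨f x, hle hxW⟩).asIdeal = maximalIdeal Γ(Y, V) := by
    let q : Spec Γ(Y, V) := closedPoint Γ(Y, V)
    have h1 : hV.fromSpec q ⤳ f x := hs _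
    have h2 := (AssLib.primeIdealOf_le_iff hV (hle hxW) (show hV.fromSpec q ∈ V from trivial)).2 h1
    have h3 : hV.primeIdealOf ⟨hV.fromSpec q, trivial⟩ = q :=
      hV.fromSpec.isOpenEmbedding.injective (hV.fromSpec_primeIdealOf _)
    rw [h3] at h2
    exact le_antisymm (le_maximalIdeal (Ideal.IsPrime.ne_top inferInstance)) h2
  let P := (hW.primeIdealOf ⟨y, hyW⟩).asIdeal
  let Q := (hW.primeIdealOf ⟨x, hxW⟩).asIdeal
  have hP : P.comap (algebraMap Γ(Y, V) Γ(X, W)) = ⊥ := (hfcomm y hyW).symm.trans hbot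
  have hQ : Q.comap (algebraMap Γ(Y, V) Γ(X, W)) = maximalIdeal Γ(Y, V) := (hfcomm x hxW).symm.trans hmax
  have hPQ : P ≤ Q := (AssLib.primeIdealOf_le_iff hW hxW hyW).2 hyx
  have hmin : ∀ J : Ideal Γ(X, W), J.IsPrime → P ≤ J → J ≤ Q →
      maximalIdeal Γ(Y, V) ≤ J.comap (algebraMap Γ(Y, V) Γ(X, W)) → J = Q := by
    intro J hJ hPJ hJQ hJm
    let w : Spec Γ(X, W) := (⟨J, hJ⟩ : PrimeSpectrum Γ(X, W))
    have hzW : hW.fromSpec w ∈ W := hW.range_fromSpec.le ⟨w, rfl⟩
    have hzw : hW.primeIdealOf ⟨hW.fromSpec w, hzW⟩ = w :=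
      hW.fromSpec.isOpenEmbedding.injective (hW.fromSpec_primeIdealOf ⟨_, hzW⟩)
    have hz1 : y ⤳ hW.fromSpec w := (AssLib.primeIdealOf_le_iff hW hzW hyW).1 (by rw [hzw]; exact hPJ)
    have hz2 : hW.fromSpec w ⤳ x := (AssLib.primeIdealOf_le_iff hW hxW hzW).1 (by rw [hzw]; exact hJQ)
    have hzf : f (hW.fromSpec w) = f x := by
      have h1 : hV.primeIdealOf ⟨f (hW.fromSpec w), hle hzW⟩ = hV.primeIdealOf ⟨f x, hle hxW⟩ := by
        refine PrimeSpectrum.ext ?_
        rw [hfcomm _ hzW, hzw, hmax]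
        exact le_antisymm (le_maximalIdeal (Ideal.IsPrime.ne_top inferInstance)) hJm
      have := congrArg hV.fromSpec h1
      rwa [hV.fromSpec_primeIdealOf, hV.fromSpec_primeIdealOf] at this
    have hzx := hgen _ hz1 hz2 hzf
    show w.asIdeal = Q
    rw [← hzw]
    exact congrArg (fun z : W => (hW.primeIdealOf z).asIdeal) (Subtype.ext hzx)
  have hassoc : ∀ (z : X) (hz : z ∈ W),
      letI : Algebra Γ(Y, V) (X.presheaf.stalk z) := ((f.appLE V W hle) ≫ X.presheaf.germ W z hz).hom.toAlgebra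
      z ∈ MoreMor.relAss f F ↔ IsAssociatedPrime (maximalIdeal (X.presheaf.stalk z))
        (F.presheaf.stalk z ⧸ ((((hW.primeIdealOf ⟨z, hz⟩).asIdeal.comap (algebraMap Γ(Y, V) Γ(X, W))).map
          (algebraMap Γ(Y, V) (X.presheaf.stalk z))) • ⊤ :
          Submodule (X.presheaf.stalk z) (F.presheaf.stalk z))) := fun z hz => by
    show IsAssociatedPrime _ (_ ⧸ (Codepth5.fibIdeal f z • ⊤ : Submodule _ _)) ↔ _
    exact iff_of_eq (congrArg (fun J : Ideal (X.presheaf.stalk z) => IsAssociatedPrime (maximalIdeal (X.presheaf.stalk z))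
      (F.presheaf.stalk z ⧸ (J • ⊤ : Submodule (X.presheaf.stalk z) (F.presheaf.stalk z))))
      (Codepth5.fibIdeal_eq f hW hV hle hz))
  -- the element at the generic point
  have helt : ∃ n : Γ(F, W), (∀ w ∉ P, w • n ≠ 0) ∧ ∀ b ∈ P, ∃ k : ℕ, ∃ w ∉ P, (w * b ^ k) • n = 0 := by
    letI := QCoh.stalkModule F hyW
    haveI := QCoh.isLocalizedModule_germLin hF.1 hW hyW
    letI := QCoh.stalkAlg (X := X) hyW
    haveI := QCoh.isLocalization_stalk' hW hyW
    letI : Algebra Γ(Y, V) (X.presheaf.stalk y) := ((f.appLE V W hle) ≫ X.presheaf.germ W y hyW).hom.toAlgebra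
    haveI : IsScalarTower Γ(X, W) (X.presheaf.stalk y) (F.presheaf.stalk y) :=
      IsScalarTower.of_algebraMap_smul fun _ _ => rfl
    have h1 := (hassoc y hyW).1 hy
    rw [show (hW.primeIdealOf ⟨y, hyW⟩).asIdeal.comap (algebraMap Γ(Y, V) Γ(X, W)) = ⊥ from hP, Ideal.map_bot,
      Submodule.bot_smul] at h1
    obtain ⟨hprime, ζ, hζ⟩ := h1
    obtain ⟨ξ, rfl⟩ := Submodule.Quotient.mk_surjective _ ζ
    obtain ⟨⟨n, u⟩, hu⟩ := IsLocalizedModule.surj (hW.primeIdealOf ⟨y, hyW⟩).asIdeal.primeCompl (QCoh.germLin F hyW) ξ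
    refine ⟨n, fun w hw h0 => hprime.ne_top ?_, fun b hb => ?_⟩
    · have hg : QCoh.germLin F hyW n = 0 :=
        (IsLocalizedModule.eq_zero_iff (hW.primeIdealOf ⟨y, hyW⟩).asIdeal.primeCompl _).2 ⟨⟨w, hw⟩, h0⟩
      have hξ : ξ = 0 := by
        have h2 : (u : Γ(X, W)) • ξ = 0 := hu.trans hg
        rw [← algebraMap_smul (X.presheaf.stalk y)] at h2
        exact (IsLocalization.map_units (X.presheaf.stalk y) u).smul_eq_zero.1 h2
      rw [hζ, hξ, Submodule.Quotient.mk_zero, Ideal.radical_eq_top, Ideal.eq_top_iff_one,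
        Submodule.mem_colon_singleton, Submodule.mem_bot, smul_zero]
    · have hb' : algebraMap Γ(X, W) (X.presheaf.stalk y) b ∈ maximalIdeal (X.presheaf.stalk y) :=
        (IsLocalization.AtPrime.to_map_mem_maximal_iff _ (hW.primeIdealOf ⟨y, hyW⟩).asIdeal b).2 hb
      rw [hζ] at hb'
      obtain ⟨k, hk⟩ := hb'
      rw [Submodule.mem_colon_singleton, Submodule.mem_bot, ← Submodule.Quotient.mk_smul,
        Submodule.Quotient.mk_eq_zero, Submodule.mem_bot, ← map_pow, algebraMap_smul] at hk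
      have h2 : QCoh.germLin F hyW (b ^ k • n) = 0 := by
        rw [map_smul, ← hu]
        show b ^ k • (u : Γ(X, W)) • ξ = 0
        rw [smul_comm, hk, smul_zero]
      obtain ⟨⟨w, hw⟩, hwn⟩ := (IsLocalizedModule.eq_zero_iff (hW.primeIdealOf ⟨y, hyW⟩).asIdeal.primeCompl _).1 h2
      exact ⟨k, w, hw, by rw [mul_smul]; exact hwn⟩
  letI := QCoh.stalkModule F hxW
  haveI := QCoh.isLocalizedModule_germLin hF.1 hW hxW
  letI := QCoh.stalkAlg (X := X) hxW
  haveI := QCoh.isLocalization_stalk' hW hxW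
  letI : Algebra Γ(Y, V) (X.presheaf.stalk x) := ((f.appLE V W hle) ≫ X.presheaf.germ W x hxW).hom.toAlgebra
  haveI : IsScalarTower Γ(Y, V) Γ(X, W) (X.presheaf.stalk x) := IsScalarTower.of_algebraMap_eq fun _ => rfl
  haveI : IsScalarTower Γ(X, W) (X.presheaf.stalk x) (F.presheaf.stalk x) :=
    IsScalarTower.of_algebraMap_smul fun _ _ => rfl
  letI : Module Γ(Y, V) (F.presheaf.stalk x) :=
    Module.compHom _ ((f.appLE V W hle) ≫ X.presheaf.germ W x hxW).hom
  haveI : IsScalarTower Γ(Y, V) (X.presheaf.stalk x) (F.presheaf.stalk x) :=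
    IsScalarTower.of_algebraMap_smul fun _ _ => rfl
  haveI : Module.Flat Γ(Y, V) (F.presheaf.stalk x) := (QCoh.isFlatOverAt_iff f hV hle hxW).1 hfl
  refine (hassoc x hxW).2 ?_
  rw [show (hW.primeIdealOf ⟨x, hxW⟩).asIdeal.comap (algebraMap Γ(Y, V) Γ(X, W)) = maximalIdeal Γ(Y, V) from hQ]
  exact isAssociatedPrime_closed P Q hPQ hQ hmin (QCoh.germLin F hxW) helt

/-- A valuation ring through a specialisation in the source, over the residue field downstairs. -/
theorem exists_valuation_point {X S : Scheme.{u}} (f : X ⟶ S) {y x : X} (hyx : y ⤳ x) (hne : x ≠ y) :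
    ∃ (R : ValuationSubring (S.residueField (f y))) (g : Spec (CommRingCat.of R) ⟶ S) (a b : ↥(pullback f g)),
      a ⤳ b ∧ pullback.fst f g a = y ∧ pullback.fst f g b = x ∧
      pullback.snd f g a = (⟨⊥, Ideal.isPrime_bot⟩ : PrimeSpectrum R) ∧ pullback.snd f g b = closedPoint R ∧
      Spec.map (CommRingCat.ofHom R.subtype) ≫ g = S.fromSpecResidueField (f y) := by
  obtain ⟨A, h, -, hc, hA⟩ := S4447.result (𝟙 X) y x hyx hne
  rw [Category.comp_id] at hA
  let res := f.residueFieldMap y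
  let R : ValuationSubring (S.residueField (f y)) := A.comap res.hom
  let φ := Scheme.stalkClosedPointTo (h ≫ f)
  have hφ : Spec.map φ ≫ S.fromSpecStalk ((h ≫ f) (closedPoint A)) = h ≫ f :=
    Scheme.Spec_stalkClosedPointTo_fromSpecStalk (h ≫ f)
  have hsp : f y ⤳ (h ≫ f) (closedPoint A) := by
    rw [Scheme.Hom.comp_apply, show h (closedPoint A) = x from hc]
    exact hyx.map f.continuous
  let ρ := S.presheaf.stalkSpecializes hsp ≫ S.residue (f y)
  have hρ : Spec.map ρ ≫ S.fromSpecStalk ((h ≫ f) (closedPoint A)) = S.fromSpecResidueField (f y) := by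
    rw [Spec.map_comp, Category.assoc, Scheme.SpecMap_stalkSpecializes_fromSpecStalk]
    rfl
  have heq : φ ≫ CommRingCat.ofHom A.subtype = ρ ≫ res := by
    apply Spec.map_injective
    rw [← cancel_mono (S.fromSpecStalk ((h ≫ f) (closedPoint A))), Spec.map_comp, Spec.map_comp, Category.assoc,
      Category.assoc, hφ, hρ, reassoc_of% hA, Scheme.Hom.SpecMap_residueFieldMap_fromSpecResidueField]
  have hmem : ∀ r, ρ.hom r ∈ R := fun r => by
    show res.hom (ρ.hom r) ∈ A
    have := congrArg (fun k => k.hom r) heq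
    rw [show res.hom (ρ.hom r) = (φ.hom r : A) from this.symm]
    exact (φ.hom r).2
  let φR : S.presheaf.stalk ((h ≫ f) (closedPoint A)) ⟶ CommRingCat.of R := CommRingCat.ofHom (ρ.hom.codRestrict R.toSubring hmem)
  let ι : CommRingCat.of R ⟶ CommRingCat.of A :=
    CommRingCat.ofHom ((res.hom.comp R.subtype).codRestrict A.toSubring fun r => r.2)
  have hι : φR ≫ ι = φ := CommRingCat.hom_ext (RingHom.ext fun r => Subtype.ext
    (congrArg (fun k => k.hom r) heq).symm)
  let g : Spec (CommRingCat.of R) ⟶ S := Spec.map φR ≫ S.fromSpecStalk ((h ≫ f) (closedPoint A))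
  have hg : h ≫ f = Spec.map ι ≫ g := by
    rw [← reassoc_of% (Spec.map_comp φR ι), hι, hφ]
  let L := pullback.lift h (Spec.map ι) hg
  let ηA : Spec (CommRingCat.of A) := Spec.map (CommRingCat.ofHom A.subtype) (closedPoint (X.residueField y))
  have hbot : ∀ r : R, ι.hom r ∈ maximalIdeal A ↔ r ∈ maximalIdeal R := fun r =>
    (GeomRedFlat5.mem_maximalIdeal_of_comap res.hom A r (ι.hom r) rfl).symm
  refine ⟨R, g, L ηA, L (closedPoint A), (specializes_closedPoint ηA).map L.continuous, ?_, ?_, ?_, ?_, ?_⟩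
  · rw [← Scheme.Hom.comp_apply, pullback.lift_fst, ← Scheme.Hom.comp_apply, hA]
    exact X.fromSpecResidueField_apply y _
  · rw [← Scheme.Hom.comp_apply, pullback.lift_fst]
    exact hc
  · rw [← Scheme.Hom.comp_apply, pullback.lift_snd]
    refine PrimeSpectrum.ext (Ideal.ext fun r => ?_)
    show res.hom (r : S.residueField (f y)) ∈ maximalIdeal (X.residueField y) ↔ r ∈ (⊥ : Ideal R)
    rw [maximalIdeal_eq_bot, Ideal.mem_bot, Ideal.mem_bot, map_eq_zero, ← Subtype.coe_injective.eq_iff]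
    rfl
  · rw [← Scheme.Hom.comp_apply, pullback.lift_snd]
    exact PrimeSpectrum.ext (Ideal.ext hbot)
  · show Spec.map _ ≫ Spec.map φR ≫ _ = _
    rw [← reassoc_of% (Spec.map_comp φR (CommRingCat.ofHom R.subtype)), ← hρ]
    rfl

/-- EGA IV 12.1.1.5. -/
theorem mem_relAss_and_rd_eq {X S : Scheme.{u}} (f : X ⟶ S) [LocallyOfFiniteType f] {F : X.Modules}
    (hF : Coh.IsCoh F) {y x : X} (hy : y ∈ MoreMor.relAss f F) (hyx : y ⤳ x)
    (hgen : ∀ z, y ⤳ z → z ⤳ x → f z = f x → z = x) (hfl : FlatMod.IsFlatOverAt f F x) :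
    x ∈ MoreMor.relAss f F ∧ FibDim.rd f x = FibDim.rd f y := by
  by_cases hne : x = y
  · subst hne; exact ⟨hy, rfl⟩
  obtain ⟨R, g, a, b, hab, ha, hb, hsa, hsb, -⟩ := exists_valuation_point f hyx hne
  let f' := pullback.snd f g
  let p := pullback.fst f g
  have hw : ∀ v, f (p v) = g (f' v) := fun v => by
    rw [← Scheme.Hom.comp_apply, ← Scheme.Hom.comp_apply]
    exact congrArg (fun φ : pullback f g ⟶ S => φ v) pullback.condition
  have hc := IsPullback.of_hasPullback f g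
  haveI : ValuationRing Γ(Spec (CommRingCat.of R), ⊤) :=
    Function.Surjective.valuationRing (Scheme.ΓSpecIso (CommRingCat.of R)).inv.hom
      (ConcreteCategory.bijective_of_isIso (Scheme.ΓSpecIso (CommRingCat.of R)).inv).2
  have hF' : Coh.IsCoh ((Scheme.Modules.pullback p).obj F) := ZClosLib.isCoh_pullback p hF
  -- the point over the generic point
  obtain ⟨c, hcy, hca, hfc, hcmax⟩ := FibDim.exists_max_rd f' (Z := {v | p v = y}) (x := a) ha
  have hc1 : ∀ v, v ⤳ c → p v = p c → f' v = f' c → v = c := fun v hv hpv hfv => by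
    by_contra hvc
    have h1 := FibDim.rd_lt f' hv hvc hfv
    have h2 := hcmax v (hpv.trans hcy) (hv.trans hca) (hfv.trans hfc)
    omega
  have hcAss : c ∈ MoreMor.relAss f' ((Scheme.Modules.pullback p).obj F) := by
    have h1 := (ConsPropLib.mem_ass_fibre_baseChange_iff f hF.1 g f' p hc c).2
      ⟨(ConsPropLib.mem_relAss_iff_fibre f F (f (p c)) (f.asFiber (p c))).1 (by
        rw [f.fiberι_asFiber, show p c = y from hcy]; exact hy), fun v h1 h2 h3 => hc1 v h3 h2 h1⟩
    have h2 := (ConsPropLib.mem_relAss_iff_fibre f' _ (f' c) (f'.asFiber c)).2 h1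
    rwa [f'.fiberι_asFiber] at h2
  -- the point over the closed point
  obtain ⟨d, hcd, hdb, hfd, hdmax⟩ := FibDim.exists_max_rd f' (Z := {v | c ⤳ v}) (x := b) (hca.trans hab)
  have hgen' : ∀ v, c ⤳ v → v ⤳ d → f' v = f' d → v = d := fun v hv1 hv2 hfv => by
    by_contra hvd
    have h1 := FibDim.rd_lt f' hv2 hvd hfv
    have h2 := hdmax v hv1 (hv2.trans hdb) (hfv.trans hfd)
    omega
  have hpd : p d = x := by
    refine hgen _ ?_ ?_ ?_
    · exact (specializes_of_eq (show y = p c from hcy.symm)).trans (Specializes.map hcd p.continuous)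
    · exact (hdb.map p.continuous).trans (specializes_of_eq hb)
    · rw [← hb, hw, hw, hfd]
  have hη : ∀ t, f' c ⤳ t := fun t => by
    rw [hfc, hsa]
    exact (PrimeSpectrum.le_iff_specializes (⟨⊥, Ideal.isPrime_bot⟩ : PrimeSpectrum R) (t : PrimeSpectrum R)).1 bot_le
  have hs : ∀ t, t ⤳ f' d := fun t => by
    rw [hfd, hsb]
    exact specializes_closedPoint t
  have hdAss := mem_relAss_valuation f' hF' hcAss hη hs hcd hgen'
    (MorLib.FlatBC.isFlatOverAt_baseChange f f' p g hc F d (by rwa [hpd]))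
  have hd1 := (ConsPropLib.mem_ass_fibre_baseChange_iff f hF.1 g f' p hc d).1
    ((ConsPropLib.mem_relAss_iff_fibre f' _ (f' d) (f'.asFiber d)).1 (by rwa [f'.fiberι_asFiber]))
  refine ⟨?_, ?_⟩
  · have h2 := (ConsPropLib.mem_relAss_iff_fibre f F (f (p d)) (f.asFiber (p d))).2 hd1.1
    rwa [f.fiberι_asFiber, hpd] at h2
  have e1 : FibDim.rd f' d = FibDim.rd f x := by
    rw [FibDim.rd_baseChange_eq_of_minimal hc d fun v hv hpv hqv => hd1.2 v hqv hpv hv]
    exact congrArg _ hpd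
  have e2 : FibDim.rd f' c = FibDim.rd f y := by
    rw [FibDim.rd_baseChange_eq_of_minimal hc c hc1]
    exact congrArg _ hcy
  rw [← e1, ← e2]
  refine le_antisymm (FlatMisc.ValuationFibGeneric.rd_le f' hcd) ?_
  have hopen := H1GeomRk.isOpen_forall_rd_le f' (isClosed_closure (s := ({c} : Set ↥(pullback f g)))) (FibDim.rd f' d)
  exact Specializes.mem_open hcd hopen (fun v hv hvd hfv => by
    rw [hgen' v (specializes_iff_mem_closure.2 hv) hvd hfv]) c (subset_closure rfl) specializes_rfl rfl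

/-- Generic points of the components of a fibre of a closure. -/
theorem minimal_of_generic {X S : Scheme.{u}} (f : X ⟶ S) {y x : X} {s : S} (hx : x ∈ closure ({y} : Set X))
    (hxs : f x = s)
    (hgen : ∃ C ∈ irreducibleComponents ↑(closure ({y} : Set X) ∩ f ⁻¹' {s}),
      IsGenericPoint (⟨x, hx, hxs⟩ : ↑(closure ({y} : Set X) ∩ f ⁻¹' {s})) C) :
    ∀ z, y ⤳ z → z ⤳ x → f z = f x → z = x := by
  obtain ⟨C, hC, hg⟩ := hgen
  intro z hyz hzx hfz
  let x₀ : ↑(closure ({y} : Set X) ∩ f ⁻¹' {s}) := ⟨x, hx, hxs⟩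
  let z₀ : ↑(closure ({y} : Set X) ∩ f ⁻¹' {s}) := ⟨z, specializes_iff_mem_closure.1 hyz, hfz.trans hxs⟩
  have h1 : z₀ ⤳ x₀ := (Topology.IsInducing.subtypeVal.specializes_iff).1 hzx
  have hsub : C ⊆ closure {z₀} := by
    rw [← show closure {x₀} = C from hg.def]
    exact closure_minimal (Set.singleton_subset_iff.2 h1.mem_closure) isClosed_closure
  have h2 : z₀ ∈ C := (hC.2 isIrreducible_singleton.closure hsub) (subset_closure rfl)
  exact congrArg Subtype.val ((h1.antisymm (hg.specializes h2)).eq)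

theorem relAss_and_localDim {X S : Scheme.{u}} (f : X ⟶ S) [LocallyOfFiniteType f] {F : X.Modules}
    (hF : Coh.IsCoh F) {y x : X} {s : S} (hy : y ∈ MoreMor.relAss f F) (hx : x ∈ closure ({y} : Set X)) (hxs : f x = s)
    (hgen : ∃ C ∈ irreducibleComponents ↑(closure ({y} : Set X) ∩ f ⁻¹' {s}),
      IsGenericPoint (⟨x, hx, hxs⟩ : ↑(closure ({y} : Set X) ∩ f ⁻¹' {s})) C)
    (hfl : FlatMod.IsFlatOverAt f F x) :
    x ∈ MoreMor.relAss f F ∧
      FlatMor.localDim ↑(closure ({y} : Set X) ∩ f ⁻¹' {s}) ⟨x, hx, hxs⟩ =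
        topologicalKrullDim ↑(closure ({y} : Set X) ∩ f ⁻¹' {f y}) := by
  have hmin := minimal_of_generic f hx hxs hgen
  obtain ⟨h1, h2⟩ := mem_relAss_and_rd_eq f hF hy (specializes_iff_mem_closure.2 hx) hmin hfl
  refine ⟨h1, ?_⟩
  subst hxs
  obtain ⟨z, hz, hzx, hfz, hd, -⟩ := FibDim.exists_localDim_inter_eq f isClosed_closure x hx
  rw [hd, hmin z (specializes_iff_mem_closure.2 hz) hzx hfz, h2, FibDim.dim_closure_inter_fibre]

end Groth.Agent.RelAssClosure
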