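import Groth.Agent.RelAssClosure.Scheme
import Groth.Agent.FDescent.MaxPoint
import Groth.Agent.FibDim.Comp

/-!
# A valuation ring through the generic points
-/

universe u

set_option autoImplicit false
set_option linter.style.haveILetI false
set_option backward.isDefEq.respectTransparency false
set_option backward.isDefEq.respectTransparency.types false

open CategoryTheory CategoryTheory.Limits AlgebraicGeometry IsLocalRing TopologicalSpace Topology

namespace Groth.Agent.RelAssClosure

theorem range_incl {K : Type u} [Field K] (R : ValuationSubring K) :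
    Set.range (Spec.map (CommRingCat.ofHom R.subtype)) = {(⟨⊥, Ideal.isPrime_bot⟩ : PrimeSpectrum R)} := by
  have h : ∀ q : Spec (CommRingCat.of K),
      Spec.map (CommRingCat.ofHom R.subtype) q = (⟨⊥, Ideal.isPrime_bot⟩ : PrimeSpectrum R) := fun q => by
    obtain rfl : q = (closedPoint K : PrimeSpectrum K) := Subsingleton.elim (α := PrimeSpectrum K) _ _
    refine PrimeSpectrum.ext (Ideal.ext fun r => ?_)
    show (r : K) ∈ maximalIdeal K ↔ r ∈ (⊥ : Ideal R)
    rw [maximalIdeal_eq_bot, Ideal.mem_bot, Ideal.mem_bot, ← Subtype.coe_injective.eq_iff]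
    rfl
  exact Set.eq_singleton_iff_unique_mem.2 ⟨⟨(closedPoint K : PrimeSpectrum K), h _⟩, fun _ ⟨q, hq⟩ => hq ▸ h q⟩

theorem exists_through {X S : Scheme.{u}} (f : X ⟶ S) (y : X) (s : S) (x : X)
    (hx : x ∈ closure ({y} : Set X)) (hxs : f x = s)
    (hgen : ∃ C ∈ irreducibleComponents ↑(closure ({y} : Set X) ∩ f ⁻¹' {s}),
      IsGenericPoint (⟨x, hx, hxs⟩ : ↑(closure ({y} : Set X) ∩ f ⁻¹' {s})) C) :
    ∃ (R : Type u) (_ : CommRing R) (_ : IsDomain R) (_ : ValuationRing R) (g : Spec (CommRingCat.of R) ⟶ S),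
      g (⊥ : PrimeSpectrum R) = f y ∧ g (closedPoint R) = s ∧
      ∃ (y' : ↑(pullback f g)) (hy't : pullback.snd f g y' = (⊥ : PrimeSpectrum R)) (hy'Y : pullback.fst f g y' ∈ closure ({y} : Set X)),
        pullback.fst f g y' = y ∧
        (∃ C ∈ irreducibleComponents ↑((pullback.fst f g) ⁻¹' closure ({y} : Set X) ∩ (pullback.snd f g) ⁻¹' {(⊥ : PrimeSpectrum R)}),
          IsGenericPoint (⟨y', hy'Y, hy't⟩ : ↑((pullback.fst f g) ⁻¹' closure ({y} : Set X) ∩ (pullback.snd f g) ⁻¹' {(⊥ : PrimeSpectrum R)})) C) ∧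
        ∃ (x' : ↑(pullback f g)) (hx' : x' ∈ closure ({y'} : Set ↑(pullback f g))) (hx's : pullback.snd f g x' = closedPoint R),
          pullback.fst f g x' = x ∧
          ∃ C ∈ irreducibleComponents ↑(closure ({y'} : Set ↑(pullback f g)) ∩ (pullback.snd f g) ⁻¹' {closedPoint R}),
            IsGenericPoint (⟨x', hx', hx's⟩ : ↑(closure ({y'} : Set ↑(pullback f g)) ∩ (pullback.snd f g) ⁻¹' {closedPoint R})) C := by
  have hmin := minimal_of_generic f hx hxs hgen
  have hyx : y ⤳ x := specializes_iff_mem_closure.2 hx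
  -- the valuation ring
  obtain ⟨R, g, a, b, hab, ha, hb, hsa, hsb, hgη⟩ :
      ∃ (R : ValuationSubring (S.residueField (f y))) (g : Spec (CommRingCat.of R) ⟶ S) (a b : ↥(pullback f g)),
        a ⤳ b ∧ pullback.fst f g a = y ∧ pullback.fst f g b = x ∧
        pullback.snd f g a = (⟨⊥, Ideal.isPrime_bot⟩ : PrimeSpectrum R) ∧ pullback.snd f g b = closedPoint R ∧
        Spec.map (CommRingCat.ofHom R.subtype) ≫ g = S.fromSpecResidueField (f y) := by
    by_cases hne : x = y
    · subst hne
      let R : ValuationSubring (S.residueField (f x)) := ⊤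
      let e : S.residueField (f x) ⟶ CommRingCat.of R :=
        CommRingCat.ofHom ((RingHom.id (S.residueField (f x))).codRestrict R.toSubring fun _ => trivial)
      let g : Spec (CommRingCat.of R) ⟶ S := Spec.map e ≫ S.fromSpecResidueField (f x)
      have hgη : Spec.map (CommRingCat.ofHom R.subtype) ≫ g = S.fromSpecResidueField (f x) := by
        rw [← Category.assoc, ← Spec.map_comp, show e ≫ CommRingCat.ofHom R.subtype = 𝟙 _ from rfl, Spec.map_id]
        exact Category.id_comp _
      have hcp : ∀ q : PrimeSpectrum R, q = closedPoint R := fun q => by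
        refine PrimeSpectrum.ext (le_antisymm (le_maximalIdeal q.2.ne_top) fun r hr => ?_)
        have hu : (r : S.residueField (f x)) = 0 := by
          by_contra h0
          exact hr (isUnit_iff_exists_inv.2 ⟨⟨(r : S.residueField (f x))⁻¹, trivial⟩, Subtype.ext (mul_inv_cancel₀ h0)⟩)
        rw [show r = 0 from Subtype.ext hu]
        exact zero_mem _
      obtain ⟨a, ha, hsa⟩ := Scheme.Pullback.exists_preimage_pullback (f := f) (g := g) x (closedPoint R : PrimeSpectrum R)
        (by
          rw [Scheme.Hom.comp_apply, Scheme.fromSpecResidueField_apply])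
      exact ⟨R, g, a, a, specializes_rfl, ha, ha, hsa.trans ((hcp _).symm), hsa, hgη⟩
    · exact exists_valuation_point f hyx hne
  let p := pullback.fst f g
  let q := pullback.snd f g
  let incl := Spec.map (CommRingCat.ofHom R.subtype)
  let m : pullback f (S.fromSpecResidueField (f y)) ⟶ pullback f g :=
    pullback.map f (S.fromSpecResidueField (f y)) f g (𝟙 X) incl (𝟙 S) (by simp)
      (by rw [Category.comp_id]; exact hgη.symm)
  have hm : Set.range m = q ⁻¹' {(⟨⊥, Ideal.isPrime_bot⟩ : PrimeSpectrum R)} := by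
    rw [Scheme.Pullback.range_map]
    refine Eq.trans (congrArg₂ (· ∩ ·) (x' := Set.univ) ?_ (congrArg (fun T => q ⁻¹' T) (range_incl R))) (Set.univ_inter _)
    rw [Set.eq_univ_iff_forall]
    exact fun z => ⟨_, rfl⟩
  have hpm : ∀ u, p (m u) = f.fiberι (f y) u := fun u => by
    rw [← Scheme.Hom.comp_apply]
    show (pullback.map f (S.fromSpecResidueField (f y)) f g (𝟙 X) incl (𝟙 S) _ _ ≫ pullback.fst f g) u = _
    rw [pullback.lift_fst, Category.comp_id]
    rfl
  have hgy : g (⟨⊥, Ideal.isPrime_bot⟩ : PrimeSpectrum R) = f y := by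
    rw [← hsa, ← Scheme.Hom.comp_apply, ← pullback.condition, Scheme.Hom.comp_apply, ha]
  have hgs : g (closedPoint R) = s := by
    rw [← hsb, ← Scheme.Hom.comp_apply, ← pullback.condition, Scheme.Hom.comp_apply, hb, hxs]
  refine ⟨R, inferInstance, inferInstance, inferInstance, g, hgy, hgs, a, hsa,
    show p a ∈ closure {y} by rw [show p a = y from ha]; exact subset_closure rfl, ha, ?_, ?_⟩
  · -- the generic fibre of the preimage is irreducible
    let a₀ : ↑(p ⁻¹' closure ({y} : Set X) ∩ q ⁻¹' {(⊥ : PrimeSpectrum R)}) :=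
      ⟨a, show p a ∈ closure {y} by rw [show p a = y from ha]; exact subset_closure rfl, hsa⟩
    have hall : ∀ z : ↑(p ⁻¹' closure ({y} : Set X) ∩ q ⁻¹' {(⊥ : PrimeSpectrum R)}), a₀ ⤳ z := by
      rintro ⟨z, hz1, hz2⟩
      obtain ⟨u, rfl⟩ : z ∈ Set.range m := hm.ge hz2
      obtain ⟨u₀, hu₀⟩ : a ∈ Set.range m := hm.ge hsa
      refine (IsInducing.subtypeVal.specializes_iff).1 ?_
      show a ⤳ m u
      rw [← hu₀]
      refine Specializes.map ?_ m.continuous
      rw [← FibDim.fiberι_specializes_iff f, ← hpm, ← hpm, hu₀, show p a = y from ha]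
      exact specializes_iff_mem_closure.2 hz1
    have huniv : closure {a₀} = Set.univ := Set.eq_univ_of_forall fun z => (hall z).mem_closure
    refine ⟨Set.univ, ⟨?_, fun Z _ _ => Set.subset_univ Z⟩, huniv⟩
    rw [← huniv]
    exact isIrreducible_singleton.closure
  · haveI : QuasiSober ↑(closure ({a} : Set ↑(pullback f g)) ∩ q ⁻¹' {closedPoint R}) :=
      (IsClosedEmbedding.subtypeVal (isClosed_closure.inter ((isClosed_singleton_closedPoint R).preimage q.continuous))).quasiSober
    obtain ⟨d, hdb, hdmax⟩ := FibDim.exists_maximal_generization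
      (⟨b, specializes_iff_mem_closure.1 hab, hsb⟩ : ↑(closure ({a} : Set ↑(pullback f g)) ∩ q ⁻¹' {closedPoint R}))
    refine ⟨d.1, d.2.1, d.2.2, ?_, closure {d}, FDescent.closure_mem_irreducibleComponents hdmax, rfl⟩
    refine hmin _ ?_ ?_ ?_
    · exact (specializes_of_eq (show y = p a from ha.symm)).trans ((specializes_iff_mem_closure.2 d.2.1).map p.continuous)
    · exact ((IsInducing.subtypeVal.specializes_iff).2 hdb |>.map p.continuous).trans (specializes_of_eq hb)
    · rw [← Scheme.Hom.comp_apply, pullback.condition, Scheme.Hom.comp_apply, show q d.1 = closedPoint R from d.2.2,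
        hgs, hxs]

end Groth.Agent.RelAssClosure
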